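import Cfsg.Agent.Omega.TTn.DiCoreAbs

/-!
# #16614 (2.4') (helper79, helper816): the passage `c ∈ O₁ ∩ F^L ⟹ c ∈ O₂(N)`

As `TTn.DiCoreAbs.core_abs` of helper439, but `c` lies in `O₁ ⊵ O` with `O₁/O` elementary abelian (`g ∈ O₁ ⟹ g² ∈ O`), `O₁`
normal in `C`; `O` is the group with the symmetry. So `O²(O₁) = O²(O)`.
-/

set_option autoImplicit false

namespace Cfsg.Agent.Omega.F4.CoreAbs

open Subgroup Cfsg Cfsg.Agent.ZN Cfsg.Agent.MinSimple.VModule Cfsg.Agent.Omega.TTn.DiCoreAbs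

variable {G : Type*} [Group G]

/-- `O₁/O` of exponent 2: `O²(O₁) = O²(O)`. -/
theorem oddGen_eq_of_sq [Finite G] {O O₁ : Subgroup G} (hOO : O ≤ O₁) (hsq : ∀ g ∈ O₁, g * g ∈ O) :
    oddGen O₁ = oddGen O := by
  refine le_antisymm ?_ (oddGen_mono hOO)
  rw [oddGen_def, closure_le]
  rintro x ⟨hx, ho⟩
  obtain ⟨k, hk⟩ := ho
  have h1 : (x * x) ^ (k + 1) = x := by
    have h2 : (x * x) ^ (k + 1) = x ^ (2 * k + 1) * x := by
      rw [← pow_two, ← pow_mul, ← pow_succ]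
      congr 1
    rw [h2, ← hk, pow_orderOf_eq_one, one_mul]
  refine mem_oddGen ?_ ⟨k, hk⟩
  rw [← h1]
  exact pow_mem (hsq x hx) _

/-- **(2.4')** -/
theorem core_abs [Finite G] {N C O O₁ L : Subgroup G} {F : Set G} (hCN : C ≤ N)
    (hC : N ≤ normalizer (C : Set G)) (hOO : O ≤ O₁) (hO₁C : O₁ ≤ C) (hO₁ : C ≤ normalizer (O₁ : Set G))
    (hsq : ∀ g ∈ O₁, g * g ∈ O)
    (hQO : o2 N ≤ normalizer (O : Set G)) (hFN : ∀ f ∈ F, f ∈ N)
    (hF : ∀ f ∈ F, ∀ c ∈ O, f * c * f⁻¹ * c⁻¹ ∈ o2 N)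
    (hL : (L : Set G) ⊆ closure (F ∪ (normalizer (O : Set G) : Set G))) {c l f : G} (hl : l ∈ L) (hf : f ∈ F)
    (hcf : c = l * f * l⁻¹) (hc : c ∈ O₁) {k : ℕ} (hk : c ^ 2 ^ k = 1) : c ∈ o2 N := by
  have : Fact (Nat.Prime 2) := ⟨Nat.prime_two⟩
  set E := oddGen O with hE
  have hEO : E ≤ O := oddGen_le O
  have hOC : O ≤ C := hOO.trans hO₁C
  have hE1 : oddGen O₁ = E := oddGen_eq_of_sq hOO hsq
  -- `O²(O O₂(N)) = O²(O)`
  have hE2 : oddGen (O ⊔ o2 N) = E := by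
    refine le_antisymm ?_ (oddGen_mono le_sup_left)
    have h1 : oddGen (O ⊔ o2 N) ≤ O := oddGen_le_of_sup (K := O) (S := o2 N) (sup_le le_normalizer hQO)
      le_rfl le_sup_right le_sup_left (o2_isPGroup N)
    rw [oddGen_def, closure_le]
    rintro x ⟨hx, ho⟩
    exact mem_oddGen (h1 (mem_oddGen hx ho)) ho
  -- `F` normalises `O O₂(N)`
  have hFn : ∀ f ∈ F, f ∈ normalizer (E : Set G) := by
    intro f hf
    have h1 : f ∈ normalizer ((O ⊔ o2 N : Subgroup G) : Set G) := by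
      refine mem_norm_of fun x hx => ?_
      have h2 : (O ⊔ o2 N) ≤ (O ⊔ o2 N).comap (MulAut.conj f).toMonoidHom := by
        refine sup_le (fun x hx => ?_) fun x hx => ?_
        · rw [mem_comap]
          change f * x * f⁻¹ ∈ _
          have h3 : f * x * f⁻¹ = f * x * f⁻¹ * x⁻¹ * x := by group
          rw [h3]
          exact mul_mem (mem_sup_right (hF f hf x hx)) (mem_sup_left hx)
        · rw [mem_comap]
          change f * x * f⁻¹ ∈ _
          exact mem_sup_right ((mem_normalizer_iff.1 (le_normalizer_o2 N (hFN f hf)) x).1 hx)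
      exact h2 hx
    have h2 := normalizer_le_normalizer_oddGen _ h1
    rwa [hE2] at h2
  have hLE : L ≤ normalizer (E : Set G) := by
    intro g hg
    have h1 : closure (F ∪ (normalizer (O : Set G) : Set G)) ≤ normalizer (E : Set G) := by
      rw [closure_le]
      rintro x (hx | hx)
      · exact hFn x hx
      · exact normalizer_le_normalizer_oddGen O hx
    exact h1 (hL hg)
  -- `[F, E] ≤ O₂(E)`
  have hEN : E ≤ N := hEO.trans (hOC.trans hCN)
  have hEo : E ⊓ o2 N ≤ o2 E := by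
    refine le_o2 inf_le_left ((o2_isPGroup N).to_le inf_le_right) fun x hx => ?_
    refine mem_norm_of fun y hy => mem_inf.2 ⟨mul_mem (mul_mem hx hy.1) (inv_mem hx), ?_⟩
    exact (mem_normalizer_iff.1 (le_normalizer_o2 N (hEN hx)) y).1 hy.2
  have hFE : ∀ f ∈ F, ∀ e ∈ E, f * e * f⁻¹ * e⁻¹ ∈ o2 E := fun f hf e he =>
    hEo (mem_inf.2 ⟨mul_mem ((mem_normalizer_iff.1 (hFn f hf) e).1 he) (inv_mem he), hF f hf e (hEO he)⟩)
  have hno : normalizer (E : Set G) ≤ normalizer (o2 E : Set G) := by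
    intro g hg
    refine mem_norm_of fun x hx => ?_
    have h1 : (o2 E).map (MulAut.conj g).toMonoidHom ≤ o2 E := by
      refine le_o2 ?_ ((o2_isPGroup E).map _) ?_
      · rintro _ ⟨y, hy, rfl⟩
        exact (mem_normalizer_iff.1 hg y).1 (o2_le E hy)
      · intro e he
        refine mem_norm_of ?_
        rintro _ ⟨y, hy, rfl⟩
        have h2 : g⁻¹ * e * g ∈ E := by
          have := (mem_normalizer_iff.1 (inv_mem hg) e).1 he
          rwa [inv_inv] at this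
        refine ⟨g⁻¹ * e * g * y * (g⁻¹ * e * g)⁻¹, (mem_normalizer_iff.1 (le_normalizer_o2 E h2) y).1 hy, ?_⟩
        change g * (g⁻¹ * e * g * y * (g⁻¹ * e * g)⁻¹) * g⁻¹ = e * (g * y * g⁻¹) * e⁻¹
        group
    exact h1 ⟨x, hx, rfl⟩
  have hO₁E : O₁ ≤ normalizer (E : Set G) := by
    have h := le_normalizer_oddGen O₁
    rwa [hE1] at h
  have hOE : O₁ ≤ normalizer (o2 E : Set G) := hO₁E.trans hno
  have hOD : ∀ g ∈ O₁, ∀ x ∈ o2 E, g * x * g⁻¹ ∈ o2 E := fun g hg x hx =>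
    (mem_normalizer_iff.1 (hOE hg) x).1 hx
  set C₁ := cmod O₁ E (o2 E) hOD with hC₁
  have hC₁O : C₁ ≤ O₁ := fun g hg => hg.1
  -- `c ∈ C₁`
  have hc₁ : c ∈ C₁ := by
    refine ⟨hc, fun e he => ?_⟩
    have h1 : l⁻¹ * e * l ∈ E := by
      have := (mem_normalizer_iff.1 (inv_mem (hLE hl)) e).1 he
      rwa [inv_inv] at this
    have h2 := hFE f hf _ h1
    have h3 := (mem_normalizer_iff.1 (hno (hLE hl)) _).1 h2
    have h4 : l * (f * (l⁻¹ * e * l) * f⁻¹ * (l⁻¹ * e * l)⁻¹) * l⁻¹ = c * e * c⁻¹ * e⁻¹ := by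
      rw [hcf]; group
    rwa [h4] at h3
  have hC₁n : O₁ ≤ normalizer (C₁ : Set G) := by
    intro g hg
    refine mem_norm_of fun x hx => ⟨mul_mem (mul_mem hg hx.1) (inv_mem hg), fun e he => ?_⟩
    have hgE := hO₁E hg
    have h1 : g⁻¹ * e * g ∈ E := by
      have := (mem_normalizer_iff.1 (inv_mem hgE) e).1 he
      rwa [inv_inv] at this
    have h2 := hOD g hg _ (hx.2 _ h1)
    have h3 : g * (x * (g⁻¹ * e * g) * x⁻¹ * (g⁻¹ * e * g)⁻¹) * g⁻¹ = g * x * g⁻¹ * e * (g * x * g⁻¹)⁻¹ * e⁻¹ := by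
      group
    rwa [h3] at h2
  -- a Sylow 2-subgroup of `C₁` which contains `c`
  have hz : IsPGroup 2 (zpowers (⟨c, hc₁⟩ : C₁)) := by
    rw [IsPGroup.iff_orderOf]
    rintro ⟨x, hx⟩
    obtain ⟨j, hj⟩ := mem_zpowers_iff.1 hx
    have h1 : orderOf (⟨x, hx⟩ : zpowers (⟨c, hc₁⟩ : C₁)) ∣ 2 ^ k := by
      rw [orderOf_dvd_iff_pow_eq_one]
      apply Subtype.ext
      change x ^ 2 ^ k = 1
      rw [← hj, ← zpow_natCast, ← zpow_mul, mul_comm, zpow_mul, zpow_natCast]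
      have h2 : (⟨c, hc₁⟩ : C₁) ^ 2 ^ k = 1 := Subtype.ext (by rw [coe_pow]; exact hk)
      rw [h2, one_zpow]
    obtain ⟨m, -, hm⟩ := (Nat.dvd_prime_pow Nat.prime_two).1 h1
    exact ⟨m, hm⟩
  obtain ⟨R', hR'⟩ := hz.exists_le_sylow
  set R : Subgroup G := (R' : Subgroup C₁).map C₁.subtype with hR
  have hRC : R ≤ C₁ := map_subtype_le _
  have hRp : IsPGroup 2 R := R'.isPGroup'.map _
  have hcR : c ∈ R := ⟨⟨c, hc₁⟩, hR' (mem_zpowers _), rfl⟩
  have hRs : ¬ 2 ∣ R.relIndex C₁ := by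
    have h1 : R.subgroupOf C₁ = (R' : Subgroup C₁) := by
      rw [hR, subgroupOf, comap_map_eq_self_of_injective C₁.subtype_injective]
    rw [relIndex, h1]
    exact R'.not_dvd_index
  have hgen := oddGen_sup hRC hRs
  -- `O₂(E) ≤ R`
  have hEC : o2 E ≤ C₁ := by
    intro x hx
    refine ⟨hOO (hEO (o2_le E hx)), fun e he => ?_⟩
    have h1 := (mem_normalizer_iff.1 (le_normalizer_o2 E he) _).1 (inv_mem hx)
    have h2 : x * e * x⁻¹ * e⁻¹ = x * (e * x⁻¹ * e⁻¹) := by group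
    rw [h2]
    exact mul_mem hx h1
  have hER : o2 E ≤ R := by
    have h1 : o2 E ≤ o2 C₁ := le_o2 hEC (o2_isPGroup E) (hC₁O.trans hOE)
    exact h1.trans (o2_le_of_sylow hRp hRs)
  -- `R` is normal in `C₁`
  have hRn : C₁ ≤ normalizer (R : Set G) := by
    have h1 : oddGen C₁ ≤ normalizer (R : Set G) := by
      intro x hx
      have hxE : x ∈ E := by
        have h := oddGen_mono hC₁O hx
        rwa [hE1] at h
      have hxC : x ∈ C₁ := oddGen_le C₁ hx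
      refine mem_norm_of fun r hr => ?_
      have h2 := (hRC hr).2 x hxE
      have h3 : x * r * x⁻¹ = (r * x * r⁻¹ * x⁻¹)⁻¹ * r := by group
      rw [h3]
      exact mul_mem (inv_mem (hER h2)) hr
    calc C₁ = oddGen C₁ ⊔ R := hgen.symm
      _ ≤ _ := sup_le h1 le_normalizer
  have h1 : c ∈ o2 C₁ := le_o2 hRC hRp hRn hcR
  have hno2 : ∀ {A B : Subgroup G}, B ≤ A → A ≤ normalizer (B : Set G) → o2 B ≤ o2 A := by
    intro A B hBA hAB
    refine le_o2 ((o2_le B).trans hBA) (o2_isPGroup B) ?_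
    intro g hg
    refine mem_norm_of fun x hx => ?_
    have h1 : (o2 B).map (MulAut.conj g).toMonoidHom ≤ o2 B := by
      refine le_o2 ?_ ((o2_isPGroup B).map _) ?_
      · rintro _ ⟨y, hy, rfl⟩
        exact (mem_normalizer_iff.1 (hAB hg) y).1 (o2_le B hy)
      · intro e he
        refine mem_norm_of ?_
        rintro _ ⟨y, hy, rfl⟩
        have h2 : g⁻¹ * e * g ∈ B := by
          have := (mem_normalizer_iff.1 (inv_mem (hAB hg)) e).1 he
          rwa [inv_inv] at this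
        refine ⟨g⁻¹ * e * g * y * (g⁻¹ * e * g)⁻¹, (mem_normalizer_iff.1 (le_normalizer_o2 B h2) y).1 hy, ?_⟩
        change g * (g⁻¹ * e * g * y * (g⁻¹ * e * g)⁻¹) * g⁻¹ = e * (g * y * g⁻¹) * e⁻¹
        group
    exact h1 ⟨x, hx, rfl⟩
  exact hno2 hCN hC (hno2 hO₁C hO₁ (hno2 hC₁O hC₁n h1))

end Cfsg.Agent.Omega.F4.CoreAbs
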