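import Cfsg.Agent.Omega.F4.Frame

/-!
# #16614 (a), (b), #16767 (b): the groups `Σ_m`, `Δ_{lm}`, `Π_{lm}` modulo `D`, over `FrD`

* `sig_cm`: `[Σ_m, U i m] ≤ D`; `sig_cen`: `C_{Σ_m}(U i m) = ⟨s m⟩ D`;
* `cm_out`: `[Π_{lm}, U p l] ≤ Σ_m`;
* `delta_cm`: `[Δ_{lm}, U i l] ≤ D`; `delta_cen`: `C_{Δ_{lm}}(U i l) = ⟨s l s m⟩ D`;
* `q_out`, `q_out'`, `q_cen`: `q ∈ U i k ∩ U j l`.
-/

set_option autoImplicit false

namespace Cfsg.Agent.Omega.F4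

open Subgroup Cfsg.Agent.Omega.TTn.Di

universe u

variable {G : Type u} [Group G]

namespace FrD

variable {s : Fin 5 → G} {U W Q : Fin 5 → Fin 5 → Subgroup G} {w : Fin 5 → Fin 5 → G}
  {K : Subgroup G} (F : FrD s U W Q w K) {i j k l m : Fin 5}

include F

theorem s_mul_cancel (i : Fin 5) (y : G) : y * s i * s i = y := by
  rw [mul_assoc, F.s_sq, mul_one]

/-- membership in `U` of commutators -/
theorem cm_left {a b : Fin 5} (hab : a ≠ b) {v y : G} (hv : v ∈ U a b) (hy : y ∈ K) :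
    cm v y ∈ U a b := by
  rw [cm_eq]
  have e : cj v y * y⁻¹ = v * (cj y v)⁻¹ := by unfold cj; group
  rw [e]
  exact mul_mem hv (inv_mem (F.KU hab y hy v hv))

theorem cm_right {a b : Fin 5} (hab : a ≠ b) {v y : G} (hv : v ∈ K) (hy : y ∈ U a b) :
    cm v y ∈ U a b := by
  rw [cm_eq]
  exact mul_mem (F.KU hab v hv y hy) (inv_mem hy)

/-- all `U`'s from `Σ_m` and one pair on `m` -/
theorem star' (h : D5 i j k l m) {y : G} (hy : Fr.Sg U i j k l y) (h1 : y ∈ U i m) : InD U y :=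
  F.star h hy.1 hy.2.1 hy.2.2 h1

/-- `[Σ_m, U i m] ≤ D` -/
theorem sig_cm (h : D5 i j k l m) {z y : G} (hz : Fr.Sg U i j k l z) (hy : y ∈ U i m) : InD U (cm z y) := by
  have hyK := F.UK h.im hy
  have c1 : Fr.Cen U z i j := fun v hv => F.Uab h.ij z hz.1 v hv
  have S : Fr.Sg U i j k m (cm z y) := F.two1 h.d hz.2.1 c1 (Or.inl hy)
  exact F.star h S.1 S.2.1 (F.cm_left h.il hz.2.2 hyK) S.2.2

/-- `[U i m, Σ_m] ≤ D` -/
theorem sig_cm' (h : D5 i j k l m) {z y : G} (hz : Fr.Sg U i j k l z) (hy : y ∈ U i m) : InD U (cm y z) := by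
  have e : cm y z = (cm z y)⁻¹ := by unfold cm; group
  rw [e]
  exact (F.sig_cm h hz hy).inv

/-- `[D, X_L] = 1` -/
theorem inD_cen {d : G} (hd : InD U d) {a b : Fin 5} (hab : a ≠ b) {y : G} (hy : y ∈ U a b) : d * y = y * d :=
  F.Uab hab d (hd a b hab) y hy

theorem inD_cen_Q {d : G} (hd : InD U d) {a b : Fin 5} (hab : a ≠ b) {q : G} (hq : q ∈ Q a b) : q * d = d * q :=
  F.UQc hab q hq d (hd a b hab)

theorem inD_cj {d : G} (hd : InD U d) {g : G} (hg : g ∈ K) : InD U (cj g d) :=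
  fun a b hab => F.KU hab g hg d (hd a b hab)

/-- `C_{Σ_m}(U i m) ≤ ⟨s m⟩ D` -/
theorem sig_cen (h : D5 i j k l m) {z : G} (hz : Fr.Sg U i j k l z) (hc : Fr.Cen U z i m) :
    InD U z ∨ InD U (z * s m) := by
  -- triangle `i m j`: `z ∈ U i j` centralises `U i m`
  have hD : D5 i m j k l :=
    ⟨h.im, h.ij, h.ik, h.il, h.jm.symm, h.km.symm, h.lm.symm, h.jk, h.jl, h.kl⟩
  have h5 : Fr.PP s U i j m z := F.thmC' hD hz.1 hc
  rcases h5.2 with h6 | h6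
  · exact Or.inl (F.star' h hz h6)
  · right
    exact F.star' h ⟨mul_mem hz.1 (F.sU h.ij h.im.symm h.jm.symm), mul_mem hz.2.1 (F.sU h.ik h.im.symm h.km.symm),
      mul_mem hz.2.2 (F.sU h.il h.im.symm h.lm.symm)⟩ h6

/-- (3.2) `[Π_{lm}, U p l] ≤ Σ_m` (`Π_{lm}` : `z ∈ U i j ∩ U i k`) -/
theorem cm_out (h : D5 i j k l m) {z y : G} (h1 : z ∈ U i j) (h2 : z ∈ U i k)
    (hy : y ∈ U i l ∨ y ∈ U j l ∨ y ∈ U k l) : Fr.Sg U i j k l (cm z y) :=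
  F.two1 h h2 (fun v hv => F.Uab h.ij z h1 v hv) hy

/-- `[Δ_{lm}, U i l] ≤ D` (`z ∈ U i j ∩ U i k ∩ U l m`) -/
theorem delta_cm (h : D5 i j k l m) {z y : G} (h1 : z ∈ U i j) (h2 : z ∈ U i k) (h3 : z ∈ U l m)
    (hy : y ∈ U i l) : InD U (cm z y) := by
  have S := F.cm_out h h1 h2 (Or.inl hy)
  have h5 := F.cm_left h.lm h3 (F.UK h.il hy)
  exact F.star' h S (F.tri (i := l) (j := m) (k := i) h.lm h.il h.im h5 (F.Usym i l ▸ S.2.2) |> fun t => by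
    rwa [F.Usym] at t)

theorem ss_mem (h : D5 i j k l m) : s l * s m ∈ U l m := by
  have e1 : s l * s m = (s i * s j * s k)⁻¹ := by
    refine eq_inv_of_mul_eq_one_right ?_
    rw [← mul_assoc]
    exact F.s_rel h
  rw [e1]
  exact inv_mem (mul_mem (mul_mem (F.sU h.lm h.il h.im) (F.sU h.lm h.jl h.jm)) (F.sU h.lm h.kl h.km))

/-- `C_{Δ_{lm}}(U i l) ≤ ⟨s l s m⟩ D` -/
theorem delta_cen (h : D5 i j k l m) {z : G} (h1 : z ∈ U i j) (h2 : z ∈ U i k) (h3 : z ∈ U l m)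
    (hc : Fr.Cen U z i l) : InD U z ∨ InD U (z * (s l * s m)) := by
  have h5 : Fr.PP s U i j l z := F.thmC' (i := i) (j := l) (k := j) (l := k) (m := m)
    ⟨h.il, h.ij, h.ik, h.im, h.jl.symm, h.kl.symm, h.lm, h.jk, h.jm, h.km⟩ h1 hc
  have him : ∀ {y : G}, y ∈ U l m → y ∈ U i l → y ∈ U i m := by
    intro y hy1 hy2
    have := F.tri (i := l) (j := m) (k := i) h.lm h.il h.im hy1 (F.Usym i l ▸ hy2)
    rwa [F.Usym] at this
  rcases h5.2 with h6 | h6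
  · exact Or.inl (F.star' h ⟨h1, h2, h6⟩ (him h3 h6))
  · right
    have e : z * (s l * s m) = z * s l * s m := (mul_assoc _ _ _).symm
    have a1 : z * (s l * s m) ∈ U i l := by
      rw [e]; exact mul_mem h6 (F.sU h.il h.im.symm h.lm.symm)
    refine F.star' h ⟨?_, ?_, a1⟩ (him (mul_mem h3 (F.ss_mem h)) a1)
    · rw [e]
      exact mul_mem (mul_mem h1 (F.sU h.ij h.il.symm h.jl.symm)) (F.sU h.ij h.im.symm h.jm.symm)
    · rw [e]
      exact mul_mem (mul_mem h2 (F.sU h.ik h.il.symm h.kl.symm)) (F.sU h.ik h.im.symm h.km.symm)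

/-- `[q, U j m] ≤ Δ_{ik}` for `q ∈ U i k ∩ U j l` -/
theorem q_out (h : D5 i j k l m) {q y : G} (h1 : q ∈ U i k) (h2 : q ∈ U j l) (hy : y ∈ U j m) :
    cm q y ∈ U i k ∧ cm q y ∈ U j l ∧ cm q y ∈ U j m ∧ cm q y ∈ U l m := by
  have hyK := F.UK h.jm hy
  have a1 := F.cm_left h.ik h1 hyK
  have a2 := F.cm_left h.jl h2 hyK
  have a3 := F.cm_right h.jm (F.UK h.ik h1) hy
  exact ⟨a1, a2, a3, F.tri h.jl h.jm.symm h.lm.symm a2 a3⟩

/-- `[q, U i j] ≤ Σ_m` for `q ∈ U i k ∩ U j l` -/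
theorem q_out' (h : D5 i j k l m) {q y : G} (h1 : q ∈ U i k) (h2 : q ∈ U j l) (hy : y ∈ U i j) :
    Fr.Sg U i j k l (cm q y) := by
  have hyK := F.UK h.ij hy
  have a1 := F.cm_left h.ik h1 hyK
  have a2 := F.cm_left h.jl h2 hyK
  have a3 := F.cm_right h.ij (F.UK h.ik h1) hy
  refine ⟨a3, a1, ?_⟩
  have h4 := F.tri (i := j) (j := i) (k := l) h.ij.symm h.jl.symm h.il.symm (F.Usym i j ▸ a3) a2
  exact h4

/-- `q ∈ U i k ∩ U j l` centralising `U j m` lies in `⟨s m⟩ Δ_{ik}` -/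
theorem q_cen (h : D5 i j k l m) {q : G} (h1 : q ∈ U i k) (h2 : q ∈ U j l) (hc : Fr.Cen U q j m) :
    q ∈ U j m ∨ q * s m ∈ U j m := by
  have hD : D5 j m l i k :=
    ⟨h.jm, h.jl, h.ij.symm, h.jk, h.lm.symm, h.im.symm, h.km.symm, h.il.symm, h.kl.symm, h.ik⟩
  exact (F.thmC' hD h2 hc).2

end FrD

end Cfsg.Agent.Omega.F4
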