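import Cfsg.Agent.Omega.TTn.Z.Di
import Cfsg.Agent.Omega.F4.CoreAbs
import Cfsg.Agent.Omega.F4.Frame

/-!
# THEOREM C of #14261 (helper439) for arbitrary `V₀` (#16614, helper79; #16767, helper816), over `Z.Base`

`D` = the intersection of the ten groups `U_π` is arbitrary.

* `coreD`: `c ∈ W 1 2` centralises `U 0 1`, `[c, U 2 3] ≤ D ⟹ c ∈ Q 0 1`;
* `frD_of`: the frame `FrD` from `Z.Base S M M h`, with the action of the `w i j` on `V`;
* `thmC`: `u ∈ U i k` centralises `U i j ⟹ u ∈ Q i j` (and `⟨s j⟩ Π`: `thmC'`).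
-/

set_option autoImplicit false
set_option linter.unusedSectionVars false

namespace Cfsg.Agent.Omega.F4

open Subgroup Cfsg Cfsg.Agent.ZN
open Cfsg.Agent.Omega.S5.Mod Cfsg.Agent.Omega.S5.TT
open Cfsg.Agent.Omega.S5.TT.Pos (n_ne a_ne n_ne_a e_sq' mem_C sn ns)
open Cfsg.Agent.MinSimple.VModule (o2_isPGroup le_o2 o2_le le_normalizer_o2 o2_le_of_sylow)
open Cfsg.Agent.Omega.TTn
open Cfsg.Agent.Omega.TTn.Di
open Cfsg.Agent.Omega.TTn.Z
open Cfsg.Agent.Omega.TTn.Z.Di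

universe u

variable {G : Type u} [Group G]

section core

variable {S : Sylow 2 G} {V₁ V₂ L₁ L₂ : Subgroup G} {M₁ : FiveMod V₁ L₁} {M₂ : FiveMod V₂ L₂} {h : G}

/-- `{g ∈ C_G(U_n) : [g, U_a] ≤ D}` for a subgroup `D ≤ U_n ∩ U_a` centralised by `C_G(U_n)`. -/
def OD (M₁ : FiveMod V₁ L₁) (D : Subgroup G) (hD : D ≤ UU (M₁.e nn) (M₁.e aa)) : Subgroup G where
  carrier := {g | g ∈ centralizer (UU (M₁.e nn) (M₁.e aa) : Set G) ∧
    ∀ y ∈ UU (M₁.e aa) (M₁.e nn), cm g y ∈ D}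
  one_mem' := ⟨one_mem _, fun y _ => by
    have h : cm (1 : G) y = 1 := by unfold cm; group
    rw [h]; exact one_mem _⟩
  mul_mem' := by
    rintro x y ⟨hx, hx'⟩ ⟨hy, hy'⟩
    refine ⟨mul_mem hx hy, fun z hz => ?_⟩
    have h1 : x * cm y z = cm y z * x := (mem_centralizer_iff.1 hx _ (hD (hy' z hz))).symm
    have e1 : cm (x * y) z = (x * cm y z) * x⁻¹ * cm x z := by unfold cm; group
    rw [e1, h1, mul_inv_cancel_right]
    exact mul_mem (hy' z hz) (hx' z hz)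
  inv_mem' := by
    rintro x ⟨hx, hx'⟩
    refine ⟨inv_mem hx, fun z hz => ?_⟩
    have h1 : x * cm x z = cm x z * x := (mem_centralizer_iff.1 hx _ (hD (hx' z hz))).symm
    have e1 : cm x⁻¹ z = (x⁻¹ * (cm x z * x))⁻¹ := by unfold cm; group
    rw [e1, ← h1, inv_mul_cancel_left]
    exact inv_mem (hx' z hz)

variable [Finite G]

/-- **(2.4')** over `Z.Base`. -/
theorem core_stdD (b : Z.Base S M₁ M₂ h) {D : Subgroup G} (hD : D ≤ UU (M₁.e nn) (M₁.e aa))
    {l f : G} (hl : l ∈ L₁) (hf : f ∈ WW V₁ V₂ (M₁.e nn))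
    (h1 : ∀ y ∈ UU (M₁.e nn) (M₁.e aa), l * f * l⁻¹ * y = y * (l * f * l⁻¹))
    (h2 : ∀ y ∈ UU (M₁.e aa) (M₁.e nn), cm (l * f * l⁻¹) y ∈ D) :
    l * f * l⁻¹ ∈ Q (M₁.e nn) := by
  have hWT : ∀ {w : G}, w ∈ WW V₁ V₂ (M₁.e aa) → w * M₁.e nn = M₁.e nn * w := fun hw =>
    mem_C.1 (b.Qa_le_T (b.WWa_le_Qa hw)).2
  have hCN : centralizer (UU (M₁.e nn) (M₁.e aa) : Set G) ≤ centralizer ({M₁.e nn} : Set G) :=
    b.centralizer_UU_le.trans inf_le_left
  have hCa : ∀ {x : G}, x ∈ centralizer (UU (M₁.e nn) (M₁.e aa) : Set G) → x * M₁.e aa = M₁.e aa * x :=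
    fun hx => mem_C.1 (b.centralizer_UU_le hx).2
  have hQf : f ∈ Q (M₁.e nn) := b.WW_le_Q hf
  obtain ⟨k, hk⟩ := o2_isPGroup _ ⟨f, hQf⟩
  have hk' : f ^ 2 ^ k = 1 := congrArg Subtype.val hk
  refine CoreAbs.core_abs (N := centralizer ({M₁.e nn} : Set G))
    (C := centralizer (UU (M₁.e nn) (M₁.e aa) : Set G)) (O := Z.Base.OO M₁) (O₁ := OD M₁ D hD) (L := L₁)
    (F := Z.Base.FF V₁ V₂ M₁) hCN b.normalizer_centralizer_UU ?_ ?_ ?_ ?_ ?_ ?_ ?_ (b.gen_le) hl (Or.inr hQf)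
    rfl ?_ (k := k) ?_
  · -- `O ≤ O₁`
    intro g hg
    refine ⟨hg.1, fun y hy => ?_⟩
    have e1 : cm g y = 1 := cm_one_iff.2 (mem_centralizer_iff.1 hg.2 y hy).symm
    rw [e1]
    exact one_mem _
  · exact fun g hg => hg.1
  · -- `C ≤ N(O₁)`
    intro x hx
    refine DiCoreAbs.mem_norm_of fun g hg => ⟨mul_mem (mul_mem hx hg.1) (inv_mem hx), fun y hy => ?_⟩
    have hax : x⁻¹ * M₁.e aa = M₁.e aa * x⁻¹ := by
      have := hCa hx
      rw [inv_mul_eq_iff_eq_mul, ← mul_assoc, this, mul_inv_cancel_right]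
    have h3 := UU_norm hax hy
    rw [inv_inv] at h3
    have h4 := hg.2 _ h3
    have h5 := (mem_centralizer_iff.1 hx _ (hD h4))
    have e1 : cm (x * g * x⁻¹) y = (x * cm g (x⁻¹ * y * x)) * x⁻¹ := by unfold cm; group
    rw [e1, ← h5, mul_inv_cancel_right]
    exact h4
  · -- squares
    intro g hg
    refine mem_inf.2 ⟨mul_mem hg.1 hg.1, mem_centralizer_iff.2 fun y hy => ?_⟩
    have h3 := hg.2 y hy
    have h4 : g * cm g y = cm g y * g := (mem_centralizer_iff.1 hg.1 _ (hD h3)).symm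
    have h5 : cm g y * cm g y = 1 := b.UU_sq (hD h3)
    have e1 : cm (g * g) y = (g * cm g y) * g⁻¹ * cm g y := by unfold cm; group
    rw [h4, mul_inv_cancel_right, h5] at e1
    exact (cm_one_iff.1 e1).symm
  · intro g hg
    exact Z.Base.OO_norm (mem_C.1 (b.Q_le_T hg).2) (b.a_comm_Q hg)
  · rintro _ (⟨g, hg, w, hw, rfl⟩ | hx)
    · exact mul_mem (mul_mem (mem_C.2 hg) (mem_C.2 (hWT hw))) (inv_mem (mem_C.2 hg))
    · exact o2_le _ hx
  · rintro _ (⟨g, hg, w, hw, rfl⟩ | hx) c hc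
    · have hc' : g⁻¹ * c * g ∈ centralizer (UU (M₁.e nn) (M₁.e aa) : Set G) := by
        have hg' : g⁻¹ * M₁.e nn = M₁.e nn * g⁻¹ := by
          rw [inv_mul_eq_iff_eq_mul, ← mul_assoc, hg, mul_inv_cancel_right]
        have := cent_UU_norm hg' hc.1
        rwa [inv_inv] at this
      set c' := g⁻¹ * c * g with hc'd
      have h3 : w * c' * w⁻¹ * c'⁻¹ ∈ Q (M₁.e nn) := by
        refine b.WWa_inf_centralizer_le (mem_inf.2 ⟨?_, ?_⟩)
        · have h4 := WW_norm (hCa hc') (inv_mem hw)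
          have h5 : w * c' * w⁻¹ * c'⁻¹ = w * (c' * w⁻¹ * c'⁻¹) := by group
          rw [h5]
          exact mul_mem hw h4
        · exact mul_mem (cent_UU_norm (hWT hw) hc') (inv_mem hc')
      have h4 := b.Q_conj hg h3
      have h5 : g * (w * c' * w⁻¹ * c'⁻¹) * g⁻¹ = g * w * g⁻¹ * c * (g * w * g⁻¹)⁻¹ * c⁻¹ := by
        rw [hc'd]; group
      rwa [h5] at h4
    · rename_i x
      have h3 := b.Q_conj (mem_C.1 (hCN hc.1)) (inv_mem hx)
      have h4 : x * c * x⁻¹ * c⁻¹ = x * (c * x⁻¹ * c⁻¹) := by group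
      rw [h4]
      exact mul_mem hx h3
  · exact ⟨mem_centralizer_iff.2 fun y hy => (h1 y hy).symm, h2⟩
  · have h3 : (l * f * l⁻¹) ^ 2 ^ k = l * f ^ 2 ^ k * l⁻¹ := conj_pow
    rw [h3, hk', mul_one, mul_inv_cancel]

end core

section one

variable {V L : Subgroup G} {M : FiveMod V L}

/-- `D` as a subgroup -/
def DD (M : FiveMod V L) : Subgroup G := ⨅ i, ⨅ j, ⨅ (_ : i ≠ j), UP M i j

theorem mem_DD {x : G} : x ∈ DD M ↔ InD (UP M) x := by
  simp only [DD, mem_iInf, InD]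

/-- an element inducing `p` normalises `D` -/
theorem DD_conj {l x : G} {p : Equiv.Perm (Fin 5)} (hl : M.Ind l p) (hx : x ∈ DD M) : l * x * l⁻¹ ∈ DD M := by
  rw [mem_DD] at hx ⊢
  intro i j hij
  have h1 := UP_conj hl (hx (p⁻¹ i) (p⁻¹ j) (fun h => hij (p⁻¹.injective h)))
  have h2 : ∀ i, p (p⁻¹ i) = i := fun i => by simp
  rwa [h2, h2] at h1

theorem DD_conj' {l x : G} {p : Equiv.Perm (Fin 5)} (hl : M.Ind l p) (hx : l * x * l⁻¹ ∈ DD M) : x ∈ DD M := by
  have h1 := DD_conj hl.inv hx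
  have h2 : l⁻¹ * (l * x * l⁻¹) * l⁻¹⁻¹ = x := by group
  rwa [h2] at h1

/-- (2.4') for the standard labels -/
def CoreD (M : FiveMod V L) : Prop :=
  ∀ c ∈ WP M 1 2, (∀ y ∈ UP M 0 1, c * y = y * c) → (∀ y ∈ UP M 2 3, cm c y ∈ DD M) → c ∈ QP M 0 1

theorem CoreD.gen (hc : CoreD M) {i j k l m : Fin 5} (h5 : D5 i j k l m) :
    ∀ c ∈ WP M j k, (∀ y ∈ UP M i j, c * y = y * c) → (∀ y ∈ UP M k l, InD (UP M) (cm c y)) → c ∈ QP M i j := by
  obtain ⟨p, rfl, rfl, rfl, rfl, rfl⟩ := exists_perm5 h5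
  obtain ⟨g, -, hg⟩ := M.exists_lift p
  have hg : M.Ind g p := hg
  intro c hcW h1 h2
  have ec : c = g * (g⁻¹ * c * g) * g⁻¹ := by group
  rw [ec, QP_conj_iff hg]
  refine hc _ ?_ (fun y hy => ?_) (fun y hy => ?_)
  · rw [← WP_conj_iff hg, ← ec]
    exact hcW
  · rw [← comm_conj_iff g, ← ec]
    exact h1 _ (UP_conj hg hy)
  · refine DD_conj' hg ?_
    rw [cm_conj, ← ec, mem_DD]
    exact h2 _ (UP_conj hg hy)

variable {S : Sylow 2 G} {h : G}

/-- (2.4') -/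
theorem coreD [Finite G] (b : Z.Base S M M h) : CoreD M := by
  intro c hc h1 h2
  obtain ⟨p, p0, p1⟩ := exists_perm2 (i := (1 : Fin 5)) (j := 2) (by decide)
  obtain ⟨l, hlL, hl⟩ := M.exists_lift p
  have ec : c = l * (l⁻¹ * c * l) * l⁻¹ := by group
  have hf : l⁻¹ * c * l ∈ WW V V (M.e nn) := by
    rw [← WP01, ← WP_conj_iff hl, ← ec, p0, p1]
    exact hc
  have hD1 : DD M ≤ UU (M.e nn) (M.e aa) := by
    intro x hx
    rw [← Z.Di.UP_zero_one b]
    exact mem_DD.1 hx 0 1 (by decide)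
  rw [QP01, ec]
  refine core_stdD b hD1 hlL hf (fun y hy => ?_) fun y hy => ?_
  · rw [← ec]
    exact h1 y (by rw [Z.Di.UP_zero_one b]; exact hy)
  · rw [← ec]
    exact h2 y (Z.Di.UP_two_three_le b hy)

/-- The frame `FrD` of #14261 from `Z.Base` (one module), `V₀` arbitrary, with the action of `w i j` on `V`. -/
theorem frD_of [Finite G] (b : Z.Base S M M h) :
    ∃ w : Fin 5 → Fin 5 → G, (∀ i j, i ≠ j → M.Ind (w i j) (Equiv.swap i j)) ∧
      FrD (sv M) (UP M) (WP M) (QP M) w (centralizer (V : Set G)) := by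
  have hcw := Z.Di.cwStd b
  have hcore := coreD b
  have hfaith := Z.Di.faithStd b
  have hex : ∀ i j : Fin 5, ∃ w, i ≠ j → w ∈ WP M i j ∧ M.Ind w (Equiv.swap i j) := by
    intro i j
    by_cases hij : i = j
    · exact ⟨1, fun h0 => absurd hij h0⟩
    · obtain ⟨w, hw, hi⟩ := Z.Di.exists_w b hij
      exact ⟨w, fun _ => ⟨hw, hi⟩⟩
  choose w hw using hex
  refine ⟨w, fun i j hij => (hw i j hij).2, ?_⟩
  refine
    { s_sq := fun i => M.e_sq _
      s_comm := fun i j => M.e_comm _ _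
      s_rel := ?_
      sK := ?_
      Ks := ?_
      Usym := UP_symm M
      Wsym := WP_symm M
      Qsym := QP_symm M
      UK := fun hij => Z.Di.U_le_C b hij
      KU := ?_
      KW := ?_
      Uab := ?_
      Usq := fun hij u hu => Z.Di.U_sq b hij hu
      UQ := fun hij => Z.Di.U_le_Q b hij
      UQc := fun hij q hq u hu => Z.Di.U_comm_Q b hij hq hu
      WQ := fun hij => Z.Di.W_le_Q b hij
      QW := fun hij q hq x hx => Z.Di.QW_comm b hij hq hx
      Wsq := fun hij x hx => Z.Di.W_sq b hij hx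
      sU := ?_
      sU' := fun hij => Z.Di.sv_notMem b hij
      wW := fun hij => (hw _ _ hij).1
      w1 := ?_
      w2 := ?_
      w3 := ?_
      cw := fun h5 => hcw.gen h5
      core := fun h5 => hcore.gen h5
      faith := fun hij => hfaith.gen hij }
  · intro i j k l m h5
    obtain ⟨p, rfl, rfl, rfl, rfl, rfl⟩ := exists_perm5 h5
    unfold sv
    rw [← M.e_add, ← M.e_add, ← M.e_add, ← M.e_add]
    have h1 : ((Pi.single (p 0) 1 + Pi.single (p 1) 1 + Pi.single (p 2) 1 + Pi.single (p 3) 1 +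
        Pi.single (p 4) 1 : Vec)) = 1 := by
      funext x
      obtain ⟨y, rfl⟩ := p.surjective x
      simp only [Pi.add_apply, Pi.single_apply, p.injective.eq_iff, Pi.one_apply]
      fin_cases y <;> simp
    rw [h1, M.e_one]
  · intro i
    rw [mem_centralizer_iff]
    exact fun v hv => M.comm hv (M.e_mem _)
  · intro i g hg
    exact (mem_centralizer_iff.1 hg _ (M.e_mem _)).symm
  · intro i j hij g hg u hu
    refine UP_norm ?_ hu
    have h1 := (mem_centralizer_iff.1 hg _ (M.e_mem (Pi.single i 1))).symm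
    have h2 := (mem_centralizer_iff.1 hg _ (M.e_mem (Pi.single j 1))).symm
    unfold sv
    rw [← mul_assoc, h1, mul_assoc, h2, ← mul_assoc]
  · intro i j hij g hg u hu
    refine WW_norm ?_ hu
    have h1 := (mem_centralizer_iff.1 hg _ (M.e_mem (Pi.single i 1))).symm
    have h2 := (mem_centralizer_iff.1 hg _ (M.e_mem (Pi.single j 1))).symm
    unfold sv
    rw [← mul_assoc, h1, mul_assoc, h2, ← mul_assoc]
  · intro i j hij u hu v hv
    exact Z.Di.U_comm_Q b hij (Z.Di.U_le_Q b hij hu) hv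
  · intro i j k hij hki hkj
    refine e_mem_UP ?_
    rw [Pi.single_eq_of_ne hki.symm, Pi.single_eq_of_ne hkj.symm]
  · intro i j k hij hki hkj u hu
    have h1 := UP_conj (hw _ _ hij).2 hu
    rw [Equiv.swap_apply_left, Equiv.swap_apply_of_ne_of_ne hki hkj] at h1
    exact h1
  · intro i j k hij hki hkj u hu
    have h1 := UP_conj (hw _ _ hij).2 hu
    rw [Equiv.swap_apply_right, Equiv.swap_apply_of_ne_of_ne hki hkj] at h1
    exact h1
  · intro i j k l hij hki hkj hli hlj hkl u hu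
    have h1 := UP_conj (hw _ _ hij).2 hu
    rw [Equiv.swap_apply_of_ne_of_ne hki hkj, Equiv.swap_apply_of_ne_of_ne hli hlj] at h1
    exact h1


/-- **THEOREM C** for arbitrary `V₀`. -/
theorem thmC [Finite G] (b : Z.Base S M M h) {i j k l m : Fin 5} (h5 : D5 i j k l m) {u : G}
    (hu : u ∈ UP M i k) (hc : ∀ y ∈ UP M i j, u * y = y * u) : u ∈ QP M i j := by
  obtain ⟨w, -, F⟩ := frD_of b
  exact F.thmC h5 hu hc

/-- THEOREM C, second form. -/
theorem thmC' [Finite G] (b : Z.Base S M M h) {i j k l m : Fin 5} (h5 : D5 i j k l m) {u : G}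
    (hu : u ∈ UP M i k) (hc : ∀ y ∈ UP M i j, u * y = y * u) :
    u ∈ UP M i j ∨ u * sv M j ∈ UP M i j := by
  obtain ⟨w, -, F⟩ := frD_of b
  exact (F.thmC' h5 hu hc).2

end one

end Cfsg.Agent.Omega.F4
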